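import Cfsg.Agent.Lib.Glauberman.Solvable
import Cfsg.Agent.Lib.Glauberman.Internal
import Cfsg.Agent.Lib.BlocksChars5.Restrict
import Mathlib.GroupTheory.Nilpotent

/-!
# Characters of degree prime to p

`not_dvd_degree_iff`: with a normal Sylow p-subgroup `S` they are the characters trivial on `[S,S]`.
`le_charKer_of_free`: a normal p'-subgroup without non-trivial elements fixed by a Sylow
p-subgroup lies in the kernel of every one of them.
-/

set_option autoImplicit false

namespace Cfsg.Agent.Lib.PPrimeDegree.Basic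

open scoped ComplexConjugate
open Cfsg.Agent.Lib.Characters.Basic Cfsg.Agent.Lib.Induced.Basic Cfsg.Agent.Lib.Clifford.Basic
open Cfsg.Agent.Lib

universe u

variable {G : Type u} [Group G] [Fintype G] {p : ℕ} [Fact p.Prime]

/-- Characters of degree prime to `p` in a group with normal Sylow p-subgroup. -/
theorem not_dvd_degree_iff (S : Subgroup G) [S.Normal] (hS : IsPGroup p S) (hidx : ¬ p ∣ S.index)
    (χ : Cfsg.IrrCharacter G) :
    ¬ p ∣ Cfsg.charDegree (χ : G → ℂ) ↔ ⁅S, S⁆ ≤ BlocksChars5.Basic.charKer χ := by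
  classical
  have hp : p.Prime := Fact.out
  set Q : Subgroup G := ⁅S, S⁆ with hQ
  constructor
  · intro hd x hx
    obtain ⟨a, rfl⟩ : ∃ a : S, (a : G) = x := ⟨⟨x, Subgroup.commutator_le_self S hx⟩, rfl⟩
    have ha : a ∈ commutator S := by
      have h1 : (commutator S).map S.subtype = Q := Subgroup.map_subtype_commutator S
      obtain ⟨b, hb, hba⟩ := h1.symm ▸ hx
      rwa [← S.subtype_injective hba]
    letI := Fintype.ofFinite (Cfsg.IrrCharacter S)
    have hdec := Characters.Complete.classFunction_eq_sum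
      (isClassFunction_of_isCharacter (isCharacter_comp S.subtype (isCharacter_irr χ)))
    show (χ : G → ℂ) (a : G) = (χ : G → ℂ) 1
    have e1 := congrFun hdec a
    have e2 := congrFun hdec 1
    simp only [Function.comp_apply, Subgroup.coe_subtype, Subgroup.coe_one, Finset.sum_apply,
      Pi.smul_apply, smul_eq_mul] at e1 e2
    rw [e1, e2]
    refine Finset.sum_congr rfl fun l _ => ?_
    by_cases hl : Cfsg.classInner ((χ : G → ℂ) ∘ S.subtype) l = 0
    · rw [show Cfsg.classInner ((χ : G → ℂ) ∘ Subtype.val) (l : S → ℂ) = 0 from hl, zero_mul,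
        zero_mul]
    congr 1
    obtain ⟨e, he, -⟩ := BlocksChars5.Restrict.ratio_dvd_nat S χ l hl
    obtain ⟨n, hn⟩ := IsPGroup.iff_card.mp hS
    have hdvd := BlocksChars5.Basic.degree_dvd_card l
    rw [hn] at hdvd
    obtain ⟨i, -, hi⟩ := (Nat.dvd_prime_pow hp).mp hdvd
    rcases Nat.eq_zero_or_pos i with rfl | hi0
    · have hl1 : (l : S → ℂ) 1 = 1 := by
        rw [BlocksChars5.Basic.apply_one, hi, pow_zero, Nat.cast_one]
      rw [← Characters.Linear.degOneHom_apply (isCharacter_irr l) hl1,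
        ← Characters.Linear.degOneHom_apply (isCharacter_irr l) hl1, map_one,
        Abelianization.commutator_subset_ker _ ha]
    · exact absurd (Dvd.dvd.mul_left (hi ▸ dvd_pow_self p hi0.ne') e) (he ▸ hd)
  · intro hle
    obtain ⟨χ', rfl⟩ := BlocksChars5.Basic.exists_deflate χ Q hle
    set mk := QuotientGroup.mk' Q with hmk
    let Sb : Subgroup (G ⧸ Q) := S.map mk
    haveI : Sb.Normal := Subgroup.Normal.map inferInstance mk (QuotientGroup.mk'_surjective Q)
    letI := Fintype.ofFinite Sb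
    have hidx' : Sb.index = S.index := by
      rw [← Subgroup.index_comap_of_surjective Sb (QuotientGroup.mk'_surjective Q),
        Subgroup.comap_map_eq_self (by rw [QuotientGroup.ker_mk']; exact Subgroup.commutator_le_self S)]
    obtain ⟨l, hl⟩ := exists_constituent_restrict Sb χ'.2
    have hl1 : (l : Sb → ℂ) 1 = 1 := BlocksChars5.Basic.degree_eq_one_of_comm l fun a b => by
      obtain ⟨x, hx, hxa⟩ := a.2
      obtain ⟨y, hy, hyb⟩ := b.2
      apply Subtype.ext
      show (a : G ⧸ Q) * b = (b : G ⧸ Q) * a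
      rw [← hxa, ← hyb, ← map_mul, ← map_mul, hmk, QuotientGroup.mk'_apply,
        QuotientGroup.mk'_apply, QuotientGroup.eq]
      have := Subgroup.commutator_mem_commutator (S.inv_mem hy) (S.inv_mem hx)
      rw [commutatorElement_def, inv_inv, inv_inv] at this
      simpa [mul_assoc] using this
    obtain ⟨e, he, hei⟩ := BlocksChars5.Restrict.ratio_dvd_nat Sb χ' l hl
    have hld : Cfsg.charDegree (l : Sb → ℂ) = 1 := by
      have := BlocksChars5.Basic.apply_one l
      rw [hl1] at this
      exact_mod_cast this.symm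
    rw [hld, mul_one] at he
    rw [BlocksChars5.Basic.charDegree_congr
      (f := (BlocksChars5.Basic.inflate Q χ' : G → ℂ)) (f' := (χ' : G ⧸ Q → ℂ)) rfl, he]
    exact fun hd => hidx (hd.trans (hidx' ▸ hei))

/-- A free normal p'-subgroup is in the kernel of every character of degree prime to `p`. -/
theorem le_charKer_of_free (P : Sylow p G) (W : Subgroup G) [hWn : W.Normal]
    (hW : ¬ p ∣ Nat.card W)
    (hfree : ∀ w ∈ W, w ∈ Subgroup.centralizer ((P : Subgroup G) : Set G) → w = 1)
    (χ : Cfsg.IrrCharacter G) (hχ : ¬ p ∣ Cfsg.charDegree (χ : G → ℂ)) :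
    W ≤ BlocksChars5.Basic.charKer χ := by
  classical
  have hp : p.Prime := Fact.out
  letI := Fintype.ofFinite W
  obtain ⟨θ, hθ⟩ := exists_constituent_restrict W χ.2
  set I := inertia W (θ : W → ℂ) with hI
  -- the inertia group contains a conjugate of `P`
  have hIdx : ¬ p ∣ I.index := by
    intro hd
    obtain ⟨e, he⟩ := exists_classInner_nat (isCharacter_comp W.subtype (isCharacter_irr χ))
      (isCharacter_irr θ)
    have h1 := clifford_degree W χ.2 θ hθ
    rw [BlocksChars5.Basic.apply_one, BlocksChars5.Basic.apply_one,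
      show (fun n : W => (χ : G → ℂ) n) = (χ : G → ℂ) ∘ W.subtype from rfl, he] at h1
    have h2 : Cfsg.charDegree (χ : G → ℂ) = e * I.index * Cfsg.charDegree (θ : W → ℂ) := by
      exact_mod_cast h1
    exact hχ (h2 ▸ (hd.mul_left e).mul_right _)
  obtain ⟨P₁⟩ : Nonempty (Sylow p I) := inferInstance
  set P₂ : Subgroup G := (P₁ : Subgroup I).map I.subtype with hP₂
  have hP₂I : P₂ ≤ I := Subgroup.map_subtype_le _
  have hP₂p : IsPGroup p P₂ := P₁.2.map _
  have hP₂idx : ¬ p ∣ P₂.index := by
    rw [← Subgroup.relIndex_mul_index hP₂I, hp.dvd_mul]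
    rintro (h | h)
    · rw [hP₂, Subgroup.relIndex, Subgroup.subgroupOf,
        Subgroup.comap_map_eq_self_of_injective I.subtype_injective] at h
      exact P₁.not_dvd_index h
    · exact hIdx h
  obtain ⟨x, hx⟩ := MulAction.exists_smul_eq G (hP₂p.toSylow hP₂idx) P
  have hPx : ∀ u ∈ (P : Subgroup G), x⁻¹ * u * x ∈ I := by
    intro u hu
    rw [← hx] at hu
    obtain ⟨v, hv, rfl⟩ := hu
    have : x⁻¹ * (x * v * x⁻¹) * x = v := by group
    show x⁻¹ * (x * v * x⁻¹) * x ∈ I
    rw [this]
    exact hP₂I hv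
  let θ' : Cfsg.IrrCharacter W := ⟨conjC W x⁻¹ (θ : W → ℂ), isIrrCharacter_conjC W _ θ.2⟩
  let act : (P : Subgroup G) →* MulAut W :=
    Glauberman.actOf (fun s _ w hw => hWn.conj_mem w hw s)
  have hinv : Glauberman.Inv act (θ' : W → ℂ) := by
    rw [Glauberman.inv_actOf_iff]
    intro u hu w w' hw
    have h1 : conjC W (x⁻¹ * u) (θ : W → ℂ) = conjC W x⁻¹ (θ : W → ℂ) := by
      rw [conjC_eq_conjC_iff, inv_inv]
      exact hPx u hu
    have h2 := congrFun h1 w
    rw [conjC_mul, conjC_apply] at h2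
    show conjC W x⁻¹ (θ : W → ℂ) w' = conjC W x⁻¹ (θ : W → ℂ) w
    rw [← h2]
    exact congrArg _ (Subtype.ext hw)
  let C : Subgroup G := W ⊓ Subgroup.centralizer ((P : Subgroup G) : Set G)
  haveI : Subsingleton C := ⟨fun a b => Subtype.ext
    ((hfree _ a.2.1 a.2.2).trans (hfree _ b.2.1 b.2.2).symm)⟩
  have hfix := Glauberman.isFix_actOf (G := W) (S := (P : Subgroup G)) (C := C)
    (fun s _ w hw => hWn.conj_mem w hw s) rfl inf_le_left
  haveI : Group.IsSolvable (P : Subgroup G) := by
    haveI := P.2.isNilpotent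
    infer_instance
  have hcop : (Nat.card W).Coprime (Nat.card (P : Subgroup G)) := by
    obtain ⟨n, hn⟩ := IsPGroup.iff_card.mp P.2
    rw [hn]
    exact ((hp.coprime_iff_not_dvd.mpr hW).symm).pow_right n
  have hcard := Glauberman.card_inv_irr hfix hcop
  have hC1 : Nat.card (Cfsg.IrrCharacter C) = 1 := by
    haveI : Subsingleton (Cfsg.IrrCharacter C) := ⟨fun a b => Subtype.ext (funext fun c => by
      rw [Subsingleton.elim c 1, BlocksChars5.Basic.degree_eq_one_of_comm a
        (fun _ _ => Subsingleton.elim _ _), BlocksChars5.Basic.degree_eq_one_of_comm b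
        (fun _ _ => Subsingleton.elim _ _)])⟩
    exact Nat.card_eq_one_iff_unique.mpr ⟨inferInstance, ⟨oneChar C⟩⟩
  rw [hC1, Nat.card_eq_one_iff_unique] at hcard
  have htriv : (θ' : W → ℂ) = fun _ => 1 := by
    have := hcard.1.elim ⟨θ', hinv⟩ ⟨oneChar W, fun _ _ => rfl⟩
    exact congrArg (fun z : {χ : Cfsg.IrrCharacter W // Glauberman.Inv act (χ : W → ℂ)} =>
      (z.1 : W → ℂ)) this
  have hθ1 : (θ : W → ℂ) = fun _ => 1 := by
    rw [← conjC_conjC_inv W x (θ : W → ℂ)]
    show conjC W x (θ' : W → ℂ) = _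
    rw [htriv]
    rfl
  have hres := restrict_eq_smul W χ.2 θ hθ (fun g => by rw [hθ1]; rfl)
  intro w hw
  have e1 := congrFun hres ⟨w, hw⟩
  have e2 := congrFun hres 1
  rw [Pi.smul_apply, hθ1] at e1 e2
  exact e1.trans e2.symm

end Cfsg.Agent.Lib.PPrimeDegree.Basic
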