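import Cfsg.Agent.Lib.PPrimeDegree.Basic
import Cfsg.Agent.Lib.Induced.Character
import Cfsg.Agent.Lib.PLocal.Thompson
import Cfsg.Agent.Lib.PGroups.Frattini
import Cfsg.Agent.Lib.Transfer.Tate
import Cfsg.Agent.Lib.Transfer.PResidual
import Mathlib.GroupTheory.Transfer

/-!
# Characters of degree prime to p and the normaliser of a Sylow subgroup

`sum_le`: the sum of the squares of the degrees prime to `p` does not decrease from `N(P)` to `G`;
`exists_complement`: in case of equality `N(P)` has a normal complement;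
`le_sum_of_complement`: a normal complement forces equality.
-/

set_option autoImplicit false

namespace Cfsg.Agent.Lib.PPrimeDegree.Normalizer

open scoped Pointwise
open Cfsg.Agent.Lib.Characters.Basic Cfsg.Agent.Lib.Induced.Basic Cfsg.Agent.Lib.Clifford.Basic
open Cfsg.Agent.Lib
open Cfsg.Agent.Lib.BlocksChars5.Basic (charKer inflate mem_charKer)

universe u

/-- The irreducible characters of degree prime to `p`. -/
abbrev PPrimeIrr (p : ℕ) (G : Type u) [Group G] : Type u :=
  {χ : Cfsg.IrrCharacter G // ¬ p ∣ Cfsg.charDegree (χ : G → ℂ)}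

section general

variable {G : Type u} [Group G] [Fintype G]

theorem sum_degree_le {φ : G → ℂ} (hφ : Cfsg.IsCharacter G φ)
    (s : Finset (Cfsg.IrrCharacter G)) (hs : ∀ a ∈ s, Cfsg.classInner φ a ≠ 0) :
    ∑ a ∈ s, Cfsg.charDegree (a : G → ℂ) ≤ Cfsg.charDegree φ := by
  classical
  letI := Fintype.ofFinite (Cfsg.IrrCharacter G)
  choose m hm using fun a : Cfsg.IrrCharacter G => exists_classInner_nat hφ (isCharacter_irr a)
  have h1 := congrFun (Characters.Complete.classFunction_eq_sum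
    (isClassFunction_of_isCharacter hφ)) 1
  simp only [Finset.sum_apply, Pi.smul_apply, smul_eq_mul, hm,
    BlocksChars5.Basic.apply_one] at h1
  rw [← BlocksChars5.Basic.charDegree_cast hφ] at h1
  have h2 : Cfsg.charDegree φ = ∑ a, m a * Cfsg.charDegree (a : G → ℂ) := by exact_mod_cast h1
  rw [h2]
  refine le_trans (Finset.sum_le_sum fun a ha => ?_)
    (Finset.sum_le_sum_of_subset (Finset.subset_univ s))
  refine Nat.le_mul_of_pos_left _ (Nat.pos_of_ne_zero fun h => hs a ha ?_)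
  rw [hm, h, Nat.cast_zero]

theorem eq_of_degree_eq {φ : G → ℂ} (hφ : Cfsg.IsCharacter G φ) (a : Cfsg.IrrCharacter G)
    (h : Cfsg.classInner φ a ≠ 0)
    (hd : Cfsg.charDegree φ = Cfsg.charDegree (a : G → ℂ)) : φ = (a : G → ℂ) := by
  obtain ⟨m, r, hr, hm, -, rfl⟩ := exists_eq_nsmul_add hφ a
  obtain ⟨k, hk⟩ := exists_degree hr
  have h1 := (BlocksChars5.Basic.charDegree_cast hφ).symm
  rw [Pi.add_apply, Pi.smul_apply, BlocksChars5.Basic.apply_one, hk, hd, nsmul_eq_mul] at h1
  have h2 : m * Cfsg.charDegree (a : G → ℂ) + k = Cfsg.charDegree (a : G → ℂ) := by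
    exact_mod_cast h1
  have hm0 : m ≠ 0 := fun h0 => h (by rw [hm, h0, Nat.cast_zero])
  have hle := Nat.le_mul_of_pos_left (Cfsg.charDegree (a : G → ℂ)) (Nat.pos_of_ne_zero hm0)
  have hk0 : k = 0 := by omega
  have hm1 : m = 1 := by
    subst hk0
    have hpos := BlocksChars5.Basic.degree_pos a
    rw [add_zero] at h2
    exact Nat.eq_of_mul_eq_mul_right hpos (h2.trans (one_mul _).symm)
  rw [eq_zero_of_apply_one_eq_zero hr (by rw [hk, hk0, Nat.cast_zero]), add_zero, hm1, one_smul]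

/-- Positive terms whose squares sum to at least the square of a bound on their sum: one term. -/
theorem single_of_sum_sq {ι : Type*} (s : Finset ι) (a : ι → ℕ) (d : ℕ) (ha : ∀ i ∈ s, 0 < a i)
    (hle : ∑ i ∈ s, a i ≤ d) (hd : 0 < d) (heq : d ^ 2 ≤ ∑ i ∈ s, a i ^ 2) :
    ∃ i ∈ s, a i = d := by
  classical
  by_contra hcon
  push Not at hcon
  rcases s.eq_empty_or_nonempty with rfl | hs
  · simp at heq
    omega
  have h1 : ∑ i ∈ s, a i ^ 2 < ∑ i ∈ s, a i * d := by
    refine Finset.sum_lt_sum_of_nonempty hs fun i hi => ?_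
    have : a i ≤ d := (Finset.single_le_sum (fun j _ => Nat.zero_le (a j)) hi).trans hle
    rw [sq]
    exact Nat.mul_lt_mul_of_pos_left (lt_of_le_of_ne this (hcon i hi)) (ha i hi)
  rw [← Finset.sum_mul] at h1
  have h2 := Nat.mul_le_mul_right d hle
  rw [← sq] at h2
  omega

end general

variable {G : Type u} [Group G] [Fintype G] {p : ℕ} [Fact p.Prime] (P : Sylow p G)

local notation "N" => Subgroup.normalizer ((P : Subgroup G) : Set G)

theorem not_dvd_index_normalizer : ¬ p ∣ (N).index := fun h =>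
  P.not_dvd_index (h.trans (Subgroup.index_dvd_of_le Subgroup.le_normalizer))

/-- `P` inside its normaliser. -/
abbrev PN : Subgroup (N) := (P : Subgroup G).subgroupOf (N)

instance : (PN P).Normal := Subgroup.normal_in_normalizer

theorem pn_isPGroup : IsPGroup p (PN P) :=
  P.2.comap_of_injective (N).subtype (N).subtype_injective

theorem pn_index : ¬ p ∣ (PN P).index := fun h => P.not_dvd_index
  (h.trans (Subgroup.relIndex_dvd_index_of_le Subgroup.le_normalizer))

theorem map_commutator_pn :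
    (⁅PN P, PN P⁆ : Subgroup (N)).map (N).subtype = ⁅(P : Subgroup G), (P : Subgroup G)⁆ := by
  rw [Subgroup.map_commutator, Subgroup.map_subgroupOf_eq_of_le Subgroup.le_normalizer]

theorem card_normalizer [Fintype (PPrimeIrr p (N))] :
    Nat.card (N) = Nat.card (commutator ↥(P : Subgroup G)) *
      ∑ η : PPrimeIrr p (N), Cfsg.charDegree (η.1 : (N) → ℂ) ^ 2 := by
  classical
  letI := Fintype.ofFinite (Cfsg.IrrCharacter (N))
  letI := Fintype.ofFinite (N)
  have h1 : ∑ η : PPrimeIrr p (N), Cfsg.charDegree (η.1 : (N) → ℂ) ^ 2 =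
      (⁅PN P, PN P⁆ : Subgroup (N)).index := by
    rw [← BlocksChars5.Basic.sum_degree_sq_quotient]
    symm
    refine Finset.sum_subtype _ (fun η => ?_) _
    rw [Finset.mem_filter]
    simpa using (Basic.not_dvd_degree_iff (PN P) (pn_isPGroup P) (pn_index P) η).symm
  rw [h1, ← Subgroup.card_mul_index ⁅PN P, PN P⁆,
    ← Subgroup.card_map_of_injective (K := (⁅PN P, PN P⁆ : Subgroup (N))) (N).subtype_injective,
    map_commutator_pn, ← Subgroup.map_subtype_commutator,
    Subgroup.card_map_of_injective (P : Subgroup G).subtype_injective]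

theorem exists_over [Fintype (N)] (η : PPrimeIrr p (N)) :
    ∃ χ : PPrimeIrr p G, Cfsg.classInner ((χ.1 : G → ℂ) ∘ (N).subtype) η.1 ≠ 0 := by
  classical
  have hp : p.Prime := Fact.out
  letI := Fintype.ofFinite (Cfsg.IrrCharacter G)
  have hc := Induced.Character.isCharacter_indFun (H := (N)) (isCharacter_irr η.1)
  choose m hm using fun a : Cfsg.IrrCharacter G => exists_classInner_nat hc (isCharacter_irr a)
  have h1 := congrFun (Characters.Complete.classFunction_eq_sum
    (isClassFunction_of_isCharacter hc)) 1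
  simp only [Finset.sum_apply, Pi.smul_apply, smul_eq_mul, hm,
    BlocksChars5.Basic.apply_one, indFun_one] at h1
  have h2 : (N).index * Cfsg.charDegree (η.1 : (N) → ℂ) =
      ∑ a, m a * Cfsg.charDegree (a : G → ℂ) := by exact_mod_cast h1
  by_contra hcon
  push Not at hcon
  have h3 : p ∣ (N).index * Cfsg.charDegree (η.1 : (N) → ℂ) := by
    rw [h2]
    refine Finset.dvd_sum fun a _ => ?_
    by_cases ha : p ∣ Cfsg.charDegree (a : G → ℂ)
    · exact ha.mul_left _
    · have := hcon ⟨a, ha⟩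
      by_contra hne
      have hm0 : m a ≠ 0 := fun h0 => hne (by rw [h0, zero_mul]; exact dvd_zero p)
      have h4 : Cfsg.classInner (Cfsg.indFun (N) (η.1 : (N) → ℂ)) a ≠ 0 := by
        rw [hm]; exact_mod_cast hm0
      rw [frobenius_reciprocity _ _ (isClassFunction_irr a)] at h4
      exact classInner_ne_zero_symm h4 this
  rcases hp.dvd_mul.mp h3 with h | h
  · exact not_dvd_index_normalizer P h
  · exact η.2 h

/-- The inequality, with what equality forces. -/
theorem sum_le [Fintype (PPrimeIrr p (N))] [Fintype (PPrimeIrr p G)] :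
    (∑ η : PPrimeIrr p (N), Cfsg.charDegree (η.1 : (N) → ℂ) ^ 2) ≤
        ∑ χ : PPrimeIrr p G, Cfsg.charDegree (χ.1 : G → ℂ) ^ 2 ∧
      ((∑ χ : PPrimeIrr p G, Cfsg.charDegree (χ.1 : G → ℂ) ^ 2) ≤
          ∑ η : PPrimeIrr p (N), Cfsg.charDegree (η.1 : (N) → ℂ) ^ 2 →
        (∀ η : PPrimeIrr p (N), ∃ χ : PPrimeIrr p G,
          (χ.1 : G → ℂ) ∘ (N).subtype = (η.1 : (N) → ℂ)) ∧
        ∀ χ : PPrimeIrr p G, ∃ η : PPrimeIrr p (N),
          (χ.1 : G → ℂ) ∘ (N).subtype = (η.1 : (N) → ℂ)) := by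
  classical
  letI := Fintype.ofFinite (N)
  choose f hf using exists_over P
  have hle : ∀ χ : PPrimeIrr p G,
      ∑ η ∈ Finset.univ.filter (fun η => f η = χ), Cfsg.charDegree (η.1 : (N) → ℂ) ≤
        Cfsg.charDegree (χ.1 : G → ℂ) := fun χ => by
    rw [← BlocksChars5.Basic.charDegree_congr
      (f := (χ.1 : G → ℂ) ∘ (N).subtype) (f' := (χ.1 : G → ℂ)) rfl]
    refine le_trans (le_of_eq ?_) (sum_degree_le (isCharacter_comp (N).subtype (isCharacter_irr χ.1))
      ((Finset.univ.filter (fun η => f η = χ)).map (Function.Embedding.subtype _)) fun a ha => ?_)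
    · rw [Finset.sum_map]; rfl
    · obtain ⟨η, hη, rfl⟩ := Finset.mem_map.mp ha
      rw [← (Finset.mem_filter.mp hη).2]
      exact hf η
  have hsq : ∀ χ : PPrimeIrr p G,
      ∑ η ∈ Finset.univ.filter (fun η => f η = χ), Cfsg.charDegree (η.1 : (N) → ℂ) ^ 2 ≤
        Cfsg.charDegree (χ.1 : G → ℂ) ^ 2 := fun χ =>
    (Finset.sum_sq_le_sq_sum_of_nonneg fun _ _ => Nat.zero_le _).trans
      (Nat.pow_le_pow_left (hle χ) 2)
  rw [← Finset.sum_fiberwise Finset.univ f]
  refine ⟨Finset.sum_le_sum fun χ _ => hsq χ, fun heq => ?_⟩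
  have heach := (Finset.sum_eq_sum_iff_of_le fun χ _ => hsq χ).mp
    (le_antisymm (Finset.sum_le_sum fun χ _ => hsq χ) heq)
  have hall : ∀ χ : PPrimeIrr p G, ∃ η : PPrimeIrr p (N), f η = χ ∧
      (χ.1 : G → ℂ) ∘ (N).subtype = (η.1 : (N) → ℂ) := fun χ => by
    obtain ⟨η, hη, hd⟩ := single_of_sum_sq _ _ _
      (fun η _ => BlocksChars5.Basic.degree_pos η.1) (hle χ)
      (BlocksChars5.Basic.degree_pos χ.1) (heach χ (Finset.mem_univ _)).ge
    refine ⟨η, (Finset.mem_filter.mp hη).2, eq_of_degree_eq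
      (isCharacter_comp (N).subtype (isCharacter_irr χ.1)) η.1 ?_
      ((BlocksChars5.Basic.charDegree_congr (f := (χ.1 : G → ℂ) ∘ (N).subtype)
        (f' := (χ.1 : G → ℂ)) rfl).trans hd.symm)⟩
    have := hf η
    rwa [(Finset.mem_filter.mp hη).2] at this
  refine ⟨fun η => ⟨f η, ?_⟩, fun χ => ⟨(hall χ).choose, (hall χ).choose_spec.2⟩⟩
  obtain ⟨η', -, h'⟩ := hall (f η)
  have h := hf η
  rw [h'] at h
  have : η'.1 = η.1 := by
    by_contra hne
    exact h (classInner_irr_of_ne hne)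
  rw [h', this]

omit [Fintype G] in
/-- A normal p-complement of a normal subgroup is normal in the whole group. -/
theorem map_normal [Finite G] (H : Subgroup G) [H.Normal] (P₀ : Sylow p H) (R₀ : Subgroup H)
    [R₀.Normal] (hR : R₀.IsComplement' (P₀ : Subgroup H)) : (R₀.map H.subtype).Normal := by
  constructor
  rintro x ⟨r, hr, rfl⟩ g
  refine ⟨⟨g * r * g⁻¹, Subgroup.Normal.conj_mem ‹_› _ r.2 g⟩, ?_, rfl⟩
  rw [SetLike.mem_coe, Transfer.PResidual.mem_iff_coprime_of_isComplement' P₀ R₀ hR] at hr ⊢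
  have : orderOf (⟨g * r * g⁻¹, Subgroup.Normal.conj_mem ‹_› _ r.2 g⟩ : H) = orderOf r := by
    rw [← Subgroup.orderOf_coe, ← Subgroup.orderOf_coe r]
    exact orderOf_injective (MulAut.conj g).toMonoidHom (MulAut.conj g).injective (r : G)
  rwa [this]

/-- Frattini argument. -/
theorem exists_mem_inv_mul (H : Subgroup G) (hP : (P : Subgroup G) ≤ H) (g : G)
    (hg : ∀ x ∈ (P : Subgroup G), g * x * g⁻¹ ∈ H) : ∃ h ∈ H, h⁻¹ * g ∈ N := by
  have hgP : ((g • P : Sylow p G) : Subgroup G) ≤ H := by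
    rintro _ ⟨x, hx, rfl⟩
    exact hg x hx
  obtain ⟨h, hh⟩ := MulAction.exists_smul_eq H (P.subtype hP) ((g • P).subtype hgP)
  rw [Sylow.smul_subtype] at hh
  have h2 := Sylow.subtype_injective hh
  refine ⟨h, h.2, Sylow.smul_eq_iff_mem_normalizer.mp ?_⟩
  rw [mul_smul, ← h2, Subgroup.smul_def, inv_smul_smul]

/-- The heart of the equality case. -/
theorem exists_complement
    (hext : ∀ η : PPrimeIrr p (N), ∃ χ : PPrimeIrr p G,
    (χ.1 : G → ℂ) ∘ (N).subtype = (η.1 : (N) → ℂ))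
  (hres : ∀ χ : PPrimeIrr p G, ∃ η : PPrimeIrr p (N),
    (χ.1 : G → ℂ) ∘ (N).subtype = (η.1 : (N) → ℂ)) :
    ∃ K : Subgroup G, K.Normal ∧ K ⊓ N = ⊥ ∧ K ⊔ N = ⊤ := by
  classical
  have hp : p.Prime := Fact.out
  letI := Fintype.ofFinite (N)
  set Q : Subgroup (N) := ⁅PN P, PN P⁆ with hQ
  have hodd : ∀ η : Cfsg.IrrCharacter (N),
      ¬ p ∣ Cfsg.charDegree (η : (N) → ℂ) ↔ Q ≤ charKer η :=
    Basic.not_dvd_degree_iff (PN P) (pn_isPGroup P) (pn_index P)
  set K : Subgroup G := ⨅ χ : PPrimeIrr p G, charKer χ.1 with hK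
  haveI hKn : K.Normal :=
    Subgroup.normal_iInf_normal fun χ => BlocksChars5.Basic.charKer_normal χ.1
  have hKN : ∀ n : (N), (n : G) ∈ K ↔ n ∈ Q := by
    intro n
    constructor
    · intro hn
      by_contra hq
      obtain ⟨η, hη, hnη⟩ := BlocksChars5.Basic.exists_not_mem_charKer Q n hq
      obtain ⟨χ, hχ⟩ := hext ⟨η, (hodd η).mpr hη⟩
      have h := Subgroup.mem_iInf.mp hn χ
      refine hnη ?_
      rw [mem_charKer] at h ⊢
      rw [← congrFun hχ n, ← congrFun hχ 1]
      exact h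
    · intro hn
      refine Subgroup.mem_iInf.mpr fun χ => ?_
      obtain ⟨η, hη⟩ := hres χ
      have h := (hodd η.1).mp η.2 hn
      rw [mem_charKer] at h ⊢
      rw [← congrFun hη n, ← congrFun hη 1] at h
      exact h
  have hQmap : ∀ n : (N), n ∈ Q → (n : G) ∈ ⁅(P : Subgroup G), (P : Subgroup G)⁆ := fun n hn =>
    map_commutator_pn P ▸ ⟨n, hn, rfl⟩
  -- Tate
  have hcomp : Cfsg.HasNormalPComplement p K := by
    refine Transfer.Tate.hasNormalPComplement_of_inf_le_frattini P K fun x hx => ?_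
    have h := hQmap _ ((hKN ⟨x, Subgroup.le_normalizer hx.2⟩).mp hx.1)
    rw [← Subgroup.map_subtype_commutator] at h
    exact Subgroup.map_mono (PGroups.commutator_le_frattini P.2) h
  let P₀ : Sylow p K := ((P.2.to_le inf_le_left : IsPGroup p ((P : Subgroup G) ⊓ K : Subgroup G))
    |>.comap_of_injective K.subtype K.subtype_injective).toSylow
      (PLocal.not_dvd_relIndex_inf P K)
  obtain ⟨R₀, hR₀n, hR₀⟩ :=
    (Transfer.PResidual.hasNormalPComplement_iff_exists P₀).mp hcomp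
  set R : Subgroup G := R₀.map K.subtype with hR
  haveI hRn : R.Normal := map_normal K P₀ R₀ hR₀
  have hKRP : K ≤ R ⊔ (P : Subgroup G) := by
    intro x hx
    have : (⟨x, hx⟩ : K) ∈ R₀ ⊔ (P₀ : Subgroup K) := by rw [hR₀.sup_eq_top]; trivial
    have h2 := Subgroup.mem_map_of_mem K.subtype this
    rw [Subgroup.map_sup] at h2
    have h3 : (P₀ : Subgroup K).map K.subtype ≤ (P : Subgroup G) := by
      rintro _ ⟨z, hz, rfl⟩
      exact hz.1
    exact SetLike.le_def.mp (sup_le_sup le_rfl h3) h2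
  have hRN : R ⊓ N = ⊥ := by
    rw [eq_bot_iff]
    rintro x ⟨⟨r, hr, rfl⟩, hxN⟩
    have hrP : (r : G) ∈ (P : Subgroup G) :=
      Subgroup.commutator_le_self _ (hQmap _ ((hKN ⟨r, hxN⟩).mp r.2))
    have hrP₀ : r ∈ (P₀ : Subgroup K) := ⟨hrP, r.2⟩
    have := hR₀.disjoint.le_bot ⟨hr, hrP₀⟩
    rw [Subgroup.mem_bot] at this
    simp [this]
  -- the subgroup `Y`
  set Y : Subgroup G :=
    ⨅ χ : {χ : PPrimeIrr p G // (P : Subgroup G) ≤ charKer χ.1}, charKer χ.1.1 with hY
  haveI hYn : Y.Normal :=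
    Subgroup.normal_iInf_normal fun χ => BlocksChars5.Basic.charKer_normal χ.1.1
  have hPY : (P : Subgroup G) ≤ Y := le_iInf fun χ => χ.2
  have hKY : K ≤ Y := le_iInf fun χ => iInf_le _ χ.1
  have hYN : ∀ n : (N), (n : G) ∈ Y → (n : G) ∈ (P : Subgroup G) := by
    intro n hn
    by_contra hq
    obtain ⟨η, hη, hnη⟩ := BlocksChars5.Basic.exists_not_mem_charKer (PN P) n hq
    obtain ⟨χ, hχ⟩ := hext ⟨η, (hodd η).mpr ((Subgroup.commutator_le_self _).trans hη)⟩
    have hPχ : (P : Subgroup G) ≤ charKer χ.1 := fun x hx => by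
      have h := hη (x := ⟨x, Subgroup.le_normalizer hx⟩) hx
      rw [mem_charKer] at h ⊢
      rw [← congrFun hχ, ← congrFun hχ] at h
      exact h
    have h := Subgroup.mem_iInf.mp hn ⟨χ, hPχ⟩
    refine hnη ?_
    rw [mem_charKer] at h ⊢
    rw [← congrFun hχ n, ← congrFun hχ 1]
    exact h
  -- the key inclusion
  have hYle : Y ≤ (P : Subgroup G) ⊔ K := by
    set mk := QuotientGroup.mk' K with hmk
    have hmks : Function.Surjective mk := QuotientGroup.mk'_surjective K
    let Pb : Sylow p (G ⧸ K) := P.mapSurjective hmks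
    set Yb : Subgroup (G ⧸ K) := Y.map mk with hYb
    haveI : Yb.Normal := Subgroup.Normal.map inferInstance mk hmks
    have hPYb : (Pb : Subgroup (G ⧸ K)) ≤ Yb := Subgroup.map_mono hPY
    let S : Sylow p Yb := Pb.subtype hPYb
    -- abelian
    have hab : ∀ a ∈ (P : Subgroup G), ∀ b ∈ (P : Subgroup G), mk a * mk b = mk b * mk a := by
      intro a ha b hb
      rw [← map_mul, ← map_mul, hmk, QuotientGroup.mk'_apply, QuotientGroup.mk'_apply,
        QuotientGroup.eq]
      have hc : (a * b)⁻¹ * (b * a) ∈ ⁅(P : Subgroup G), (P : Subgroup G)⁆ := by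
        have := Subgroup.commutator_mem_commutator ((P : Subgroup G).inv_mem hb)
          ((P : Subgroup G).inv_mem ha)
        rw [commutatorElement_def, inv_inv, inv_inv] at this
        simpa [mul_assoc] using this
      have hcN := Subgroup.le_normalizer (Subgroup.commutator_le_self _ hc)
      refine (hKN ⟨_, hcN⟩).mpr ?_
      rw [← map_commutator_pn P] at hc
      obtain ⟨n, hn, hnx⟩ := hc
      rwa [show (⟨_, hcN⟩ : (N)) = n from Subtype.ext hnx.symm]
    -- self-normalising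
    have hnorm : ∀ y ∈ Y, (∀ x ∈ (P : Subgroup G), mk (y * x * y⁻¹) ∈ (Pb : Subgroup (G ⧸ K))) →
        mk y ∈ (Pb : Subgroup (G ⧸ K)) := by
      intro y hy hyx
      have hH : ∀ z, mk z ∈ (Pb : Subgroup (G ⧸ K)) ↔ z ∈ (P : Subgroup G) ⊔ K := fun z => by
        show z ∈ ((P : Subgroup G).map mk).comap mk ↔ _
        rw [Subgroup.comap_map_eq, QuotientGroup.ker_mk']
      obtain ⟨h, hh, hhy⟩ := exists_mem_inv_mul P _ le_sup_left y fun x hx => (hH _).mp (hyx x hx)
      have hhY : h ∈ Y := sup_le hPY hKY hh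
      have := hYN ⟨_, hhy⟩ (Y.mul_mem (Y.inv_mem hhY) hy)
      rw [hH, show y = h * (h⁻¹ * y) by group]
      exact mul_mem hh (Subgroup.mem_sup_left this)
    have hSnorm : Subgroup.normalizer ((S : Subgroup Yb) : Set Yb) ≤ (S : Subgroup Yb) := by
      intro b hb
      obtain ⟨y, hy, hyb⟩ := b.2
      rw [Sylow.coe_subtype, Subgroup.mem_subgroupOf, ← hyb]
      refine hnorm y hy fun x hx => ?_
      have h := (Subgroup.mem_normalizer_iff.mp hb
        ⟨mk x, hPYb (Subgroup.mem_map_of_mem mk hx)⟩).mp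
          (Subgroup.mem_map_of_mem mk hx)
      rw [Sylow.coe_subtype, Subgroup.mem_subgroupOf] at h
      rw [map_mul, map_mul, map_inv, hyb]
      exact h
    have hScent : Subgroup.normalizer ((S : Subgroup Yb) : Set Yb) ≤
        Subgroup.centralizer ((S : Subgroup Yb) : Set Yb) := by
      intro b hb
      rw [Subgroup.mem_centralizer_iff]
      intro c hc
      obtain ⟨u, hu, hub⟩ := hSnorm hb
      obtain ⟨v, hv, hvc⟩ := hc
      apply Subtype.ext
      show (c : G ⧸ K) * b = (b : G ⧸ K) * c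
      simp only [Subgroup.coe_subtype] at hub hvc
      rw [← hub, ← hvc]
      exact hab v hv u hu
    have hcompl := MonoidHom.ker_transferSylow_isComplement' S hScent
    set W₀ : Subgroup Yb := (MonoidHom.transferSylow S hScent).ker with hW₀
    set W : Subgroup (G ⧸ K) := W₀.map Yb.subtype with hW
    haveI : W.Normal := map_normal Yb S W₀ hcompl
    letI := Fintype.ofFinite (G ⧸ K)
    have hWp : ¬ p ∣ Nat.card W := by
      rw [hW, Subgroup.card_map_of_injective Yb.subtype_injective, ← hcompl.index_eq_card]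
      exact S.not_dvd_index
    have hfree : ∀ w ∈ W, w ∈ Subgroup.centralizer ((Pb : Subgroup (G ⧸ K)) : Set (G ⧸ K)) →
        w = 1 := by
      rintro _ ⟨b, hb, rfl⟩ hc
      have hbS : b ∈ (S : Subgroup Yb) := hSnorm <| Subgroup.centralizer_le_normalizer _ <| by
        rw [Subgroup.mem_centralizer_iff]
        intro c hc'
        exact Subtype.ext (Subgroup.mem_centralizer_iff.mp hc (c : G ⧸ K) hc')
      rw [Subgroup.mem_bot.mp (hcompl.disjoint.le_bot ⟨hb, hbS⟩), map_one]
    have hW1 : W = ⊥ := by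
      rw [eq_bot_iff]
      intro w hw
      obtain ⟨y, rfl⟩ := hmks w
      rw [Subgroup.mem_bot, hmk, QuotientGroup.mk'_apply, QuotientGroup.eq_one_iff]
      refine Subgroup.mem_iInf.mpr fun χ => ?_
      obtain ⟨χ', hχ'⟩ := BlocksChars5.Basic.exists_deflate χ.1 K (iInf_le _ χ)
      have hd : ¬ p ∣ Cfsg.charDegree (χ' : G ⧸ K → ℂ) := by
        rw [← BlocksChars5.Basic.charDegree_congr
          (f := (inflate K χ' : G → ℂ)) (f' := (χ' : G ⧸ K → ℂ)) rfl, hχ']
        exact χ.2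
      have := Basic.le_charKer_of_free Pb W hWp hfree χ' hd hw
      rw [mem_charKer] at this
      rw [← hχ', mem_charKer, BlocksChars5.Basic.inflate_apply, BlocksChars5.Basic.inflate_apply,
        QuotientGroup.mk_one]
      exact this
    intro y hy
    have hW₀1 : W₀ = ⊥ := by
      rwa [hW, Subgroup.map_eq_bot_iff_of_injective _ Yb.subtype_injective] at hW1
    have hbS : (⟨mk y, Subgroup.mem_map_of_mem mk hy⟩ : Yb) ∈ (S : Subgroup Yb) := by
      have : W₀ ⊔ (S : Subgroup Yb) = ⊤ := hcompl.sup_eq_top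
      rw [hW₀1, bot_sup_eq] at this
      rw [this]
      trivial
    have : y ∈ ((P : Subgroup G).map mk).comap mk := hbS
    rwa [Subgroup.comap_map_eq, QuotientGroup.ker_mk'] at this
  refine ⟨R, hRn, hRN, eq_top_iff.mpr fun g _ => ?_⟩
  obtain ⟨y, hy, hyg⟩ := exists_mem_inv_mul P Y hPY g fun x hx => hYn.conj_mem x (hPY hx) g
  rw [show g = y * (y⁻¹ * g) by group]
  refine mul_mem ?_ (Subgroup.mem_sup_right hyg)
  exact (sup_le (Subgroup.le_normalizer.trans le_sup_right)
    (hKRP.trans (sup_le_sup le_rfl Subgroup.le_normalizer))) (hYle hy)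

/-- A normal complement forces equality. -/
theorem le_sum_of_complement [Fintype (PPrimeIrr p (N))] [Fintype (PPrimeIrr p G)]
    (K : Subgroup G) [K.Normal] (hKN : K ⊓ N = ⊥) (hsup : K ⊔ N = ⊤) :
    (∑ χ : PPrimeIrr p G, Cfsg.charDegree (χ.1 : G → ℂ) ^ 2) ≤
      ∑ η : PPrimeIrr p (N), Cfsg.charDegree (η.1 : (N) → ℂ) ^ 2 := by
  classical
  have hc : K.IsComplement' (N) := Subgroup.isComplement'_of_disjoint_and_mul_eq_univ
    (disjoint_iff.mpr hKN) (by rw [← Subgroup.normal_mul, hsup]; rfl)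
  have hKp : ¬ p ∣ Nat.card K := by
    rw [← hc.index_eq_card]
    exact not_dvd_index_normalizer P
  have hker : ∀ χ : PPrimeIrr p G, K ≤ charKer χ.1 := fun χ => by
    refine Basic.le_charKer_of_free P K hKp (fun w hw hwc => ?_) χ.1 χ.2
    have := hKN.le ⟨hw, Subgroup.centralizer_le_normalizer _ hwc⟩
    exact this
  have hsurj : Function.Surjective ((QuotientGroup.mk' K).comp (N).subtype) := by
    intro q
    obtain ⟨g, rfl⟩ := QuotientGroup.mk'_surjective K q
    have hg : g ∈ K ⊔ N := hsup ▸ Subgroup.mem_top g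
    rw [← SetLike.mem_coe, Subgroup.normal_mul] at hg
    obtain ⟨k, hk, n, hn, rfl⟩ := hg
    refine ⟨⟨n, hn⟩, ?_⟩
    rw [MonoidHom.comp_apply, map_mul, (QuotientGroup.eq_one_iff k).mpr hk |> (fun h => show
      QuotientGroup.mk' K k = 1 from h), one_mul]
    rfl
  choose c hc' using fun χ : PPrimeIrr p G =>
    BlocksChars5.Basic.exists_deflate χ.1 K (hker χ)
  have heq : ∀ χ : PPrimeIrr p G, (χ.1 : G → ℂ) ∘ (N).subtype =
      (c χ : G ⧸ K → ℂ) ∘ (QuotientGroup.mk' K).comp (N).subtype := fun χ => by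
    funext n
    show (χ.1 : G → ℂ) (n : G) = _
    rw [← hc' χ]
    rfl
  let r : PPrimeIrr p G → PPrimeIrr p (N) := fun χ =>
    ⟨⟨(χ.1 : G → ℂ) ∘ (N).subtype,
      heq χ ▸ isIrrCharacter_comp _ hsurj (c χ).2⟩, by
      rw [BlocksChars5.Basic.charDegree_congr
        (f := (χ.1 : G → ℂ) ∘ (N).subtype) (f' := (χ.1 : G → ℂ)) rfl]
      exact χ.2⟩
  have hr : Function.Injective r := fun χ ψ h => by
    have h1 : (χ.1 : G → ℂ) ∘ (N).subtype = (ψ.1 : G → ℂ) ∘ (N).subtype :=
      congrArg (fun z : PPrimeIrr p (N) => (z.1 : (N) → ℂ)) h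
    rw [heq, heq] at h1
    have h2 := hsurj.injective_comp_right h1
    apply Subtype.ext
    rw [← hc' χ, ← hc' ψ, Subtype.ext h2]
  calc (∑ χ : PPrimeIrr p G, Cfsg.charDegree (χ.1 : G → ℂ) ^ 2)
      = ∑ χ, Cfsg.charDegree ((r χ).1 : (N) → ℂ) ^ 2 := Finset.sum_congr rfl fun χ _ => by
        rw [BlocksChars5.Basic.charDegree_congr
          (f := ((r χ).1 : (N) → ℂ)) (f' := (χ.1 : G → ℂ)) rfl]
    _ = ∑ η ∈ Finset.univ.image r, Cfsg.charDegree (η.1 : (N) → ℂ) ^ 2 :=
        (Finset.sum_image (f := fun η : PPrimeIrr p (N) => Cfsg.charDegree (η.1 : (N) → ℂ) ^ 2)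
          (fun a _ b _ h => hr h)).symm
    _ ≤ _ := Finset.sum_le_sum_of_subset (Finset.subset_univ _)

end Cfsg.Agent.Lib.PPrimeDegree.Normalizer
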